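import Groth.Agent.AlgSpRegLib.ImageQc
import Groth.Agent.MonoPtLib.LimAffine
import Groth.Agent.MonoPtLib.FamilyDesc
import Groth.Agent.AlgSpLib.ThickSmoothLift

/-!
# The limit of the scheme theoretic images
-/

set_option autoImplicit false
set_option backward.isDefEq.respectTransparency false
set_option backward.isDefEq.respectTransparency.types false

universe u

open CategoryTheory CategoryTheory.Limits AlgebraicGeometry AlgSp AlgSpLib AlgSpRegLib

namespace SchImgLimLib

variable {S : Scheme.{u}}

/-- A morphism into an affine scheme factors through a closed immersion if it kills its global equations. -/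
theorem exists_factor_of_appTop {X Y Z : Over S} (x : X ⟶ Y) (z : Z ⟶ Y) [IsClosedImmersion x.left]
    [IsAffine Y.left] [QuasiCompact z.left]
    (h : ∀ t, x.left.appTop t = 0 → z.left.appTop t = 0) : ∃ l : Z ⟶ X, l ≫ x = z := by
  have hle : x.left.ker ≤ z.left.ker := by
    refine Scheme.IdealSheafData.le_of_isAffine ?_
    rw [Scheme.Hom.ker_apply, Scheme.Hom.ker_apply]
    exact fun t ht => h t ht
  refine ⟨Over.homMk (IsClosedImmersion.lift x.left z.left hle) ?_, Over.OverMorphism.ext ?_⟩
  · rw [← Over.w x, IsClosedImmersion.lift_fac_assoc, Over.w]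
  · exact IsClosedImmersion.lift_fac _ _ _

/-- Factorisation through a closed immersion may be checked after composition with etale charts. -/
theorem exists_desc_mono {X P : Sp S} {k : X ⟶ P} [Mono k] {Z : Over S} (τ : (yon S).obj Z ⟶ P)
    (H : ∀ x : Points ((yon S).obj Z), ∃ (Z' : Over S) (e : (yon S).obj Z' ⟶ (yon S).obj Z)
      (l : (yon S).obj Z' ⟶ X), RepWith @Etale e ∧ x ∈ Set.range (Points.ofPt e) ∧ l ≫ k = e ≫ τ) :
    ∃ r : (yon S).obj Z ⟶ X, r ≫ k = τ := by
  choose Z' e l he hx hl using H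
  let pts := fun z : ↥Z.left => Points.schemeEquiv Z z
  have hsur : ∀ x : Points ((yon S).obj Z), ∃ z : ↥Z.left, x ∈ Set.range (Points.ofPt (e (pts z))) :=
    fun x => by
      obtain ⟨z, rfl⟩ := (Points.schemeEquiv Z).surjective x
      exact ⟨z, hx _⟩
  obtain ⟨r, hr, -⟩ := MonoPtLib.exists_unique_desc_of_family (fun z => e (pts z)) (fun z => he _)
    hsur (fun z => l (pts z)) fun z z' T g g' w => by
      rw [← cancel_mono k, Category.assoc, Category.assoc, hl, hl, reassoc_of% w]
  obtain ⟨y, -, hy⟩ := MonoPtLib.exists_unique_desc_of_family (fun z => e (pts z)) (fun z => he _)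
    hsur (fun z => e (pts z) ≫ τ) fun z z' T g g' w => by rw [reassoc_of% w]
  refine ⟨r, (hy (r ≫ k) fun z => ?_).trans (hy τ fun z => rfl).symm⟩
  rw [← Category.assoc, hr, hl]

end SchImgLimLib

namespace SchImgLimLib

variable {S : Scheme.{u}}

set_option maxHeartbeats 1600000 in
theorem nonempty_isLimit {I : Type u} [SmallCategory I] [IsCofiltered I]
    (D : I ⥤ Sp S) (hD : ∀ i, IsAlgSpace (D.obj i)) (hDa : ∀ (i j : I) (φ : i ⟶ j), IsAffineMor (D.map φ))
    (c : Cone D) (hc : IsLimit c) {X : Sp S} (hX : IsAlgSpace X) (a : X ⟶ c.pt) (i : I)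
    {W : Sp S} (hW : IsAlgSpace W) (w : W ⟶ D.obj i) (b : X ⟶ W) (hb : b ≫ w = a ≫ c.π.app i)
    (hci : ∀ (P : Sp S) (fst : P ⟶ c.pt) (snd : P ⟶ W), IsPullback fst snd (c.π.app i) w →
      ∀ k : X ⟶ P, k ≫ fst = a → k ≫ snd = b → RepWith @IsClosedImmersion k)
    (DP : Over i ⥤ Sp S) (π₁ : DP ⟶ Over.forget i ⋙ D) (π₂ : DP ⟶ (Functor.const (Over i)).obj W)
    (hDP : ∀ i' : Over i, IsPullback (π₁.app i') (π₂.app i') (D.map i'.hom) w)
    (DX : Over i ⥤ Sp S) (ε : DX ⟶ DP) (ξ : (Functor.const (Over i)).obj X ⟶ DX)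
    (hξ : ∀ i' : Over i, ξ.app i' ≫ ε.app i' ≫ π₁.app i' = a ≫ c.π.app i'.left ∧
      ξ.app i' ≫ ε.app i' ≫ π₂.app i' = b)
    (himg : ∀ i' : Over i, IsSchImage (ξ.app i' ≫ ε.app i') (ε.app i')) :
    Nonempty (IsLimit (Cone.mk X ξ)) := by
  haveI : EtLocProp (@Flat : MorphismProperty Scheme.{u}) := etLocProp_of_list (by simp)
  haveI hmε : ∀ j, Mono (ε.app j) := fun j => mono_of_closedImmersion (himg j).1
  obtain ⟨⟨hcw⟩, ⟨hconst⟩, hover⟩ := Groth.Agent.MonoPtLib.limit_over_data D hc i
  have sqP : IsPullback (pullback.fst (c.π.app i) w) (pullback.snd (c.π.app i) w) (c.π.app i) w :=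
    IsPullback.of_hasPullback _ _
  let k : X ⟶ pullback (c.π.app i) w := pullback.lift a b hb.symm
  have hk : RepWith @IsClosedImmersion k :=
    hci _ _ _ sqP k (pullback.lift_fst _ _ _) (pullback.lift_snd _ _ _)
  haveI : Mono k := mono_of_closedImmersion hk
  -- the projections
  have hpr : ∀ j : Over i, (pullback.fst (c.π.app i) w ≫ c.π.app j.left) ≫ D.map j.hom =
      pullback.snd (c.π.app i) w ≫ w := fun j => by
    rw [Category.assoc, c.w, pullback.condition]
  let prj : ∀ j : Over i, pullback (c.π.app i) w ⟶ DP.obj j := fun j => (hDP j).lift _ _ (hpr j)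
  have hprj1 : ∀ j, prj j ≫ π₁.app j = pullback.fst (c.π.app i) w ≫ c.π.app j.left :=
    fun j => (hDP j).lift_fst _ _ _
  have hprj2 : ∀ j, prj j ≫ π₂.app j = pullback.snd (c.π.app i) w := fun j => (hDP j).lift_snd _ _ _
  have hkξ : ∀ j : Over i, k ≫ prj j = ξ.app j ≫ ε.app j := fun j => (hDP j).hom_ext
    (by rw [Category.assoc, hprj1, pullback.lift_fst_assoc, Category.assoc, (hξ j).1])
    (by rw [Category.assoc, hprj2, pullback.lift_snd, Category.assoc, (hξ j).2])
  have hDPalg : ∀ j : Over i, IsAlgSpace (DP.obj j) := fun j =>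
    isAlgSpace_of_isPullback (hD _) hW (hD i) (hDP j)
  have hqc : ∀ j : Over i, IsQuasiCompactMor (ξ.app j ≫ ε.app j) := fun j => by
    have sq₁ : IsPullback (pullback.fst (c.π.app i) w) (prj j) (c.π.app j.left) (π₁.app j) :=
      IsPullback.of_bot (by rw [hprj2, c.w]; exact sqP) (hprj1 j).symm (hDP j)
    have h1 : RepWith @IsAffineHom (prj j) := repWith_of_isPullback sq₁
      (isAffineMor_iff.1 (Groth.Agent.MonoPtLib.isAffineMor_proj D hDa hc j.left))
    rw [← hkξ]
    exact isQuasiCompactMor_of_repWith hX (hDPalg j) (repWith_comp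
      (repWith_mono (fun _ _ g (_ : IsClosedImmersion g) => (inferInstance : QuasiCompact g)) hk)
      (repWith_mono (fun _ _ g (_ : IsAffineHom g) => (inferInstance : QuasiCompact g)) h1))
  -- every cone lifts to the closed subspace
  have main : ∀ s : Cone DX, ∃ l : s.pt ⟶ X, ∀ j, l ≫ ξ.app j = s.π.app j := by
    intro s
    let s₁ : Cone (Over.forget i ⋙ D) := (Cone.postcompose (ε ≫ π₁)).obj s
    have hfst : ∀ j : Over i, hcw.lift s₁ ≫ c.π.app j.left = s.π.app j ≫ ε.app j ≫ π₁.app j :=
      fun j => hcw.fac s₁ j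
    let top : Over i := Over.mk (𝟙 i)
    have hsnd : ∀ j : Over i, s.π.app j ≫ ε.app j ≫ π₂.app j = s.π.app top ≫ ε.app top ≫ π₂.app top := by
      intro j
      have h := ((Cone.postcompose (ε ≫ π₂)).obj s).w (Over.homMk j.hom : j ⟶ top)
      simpa using h
    let t : s.pt ⟶ pullback (c.π.app i) w := pullback.lift (hcw.lift s₁)
      (s.π.app top ≫ ε.app top ≫ π₂.app top) (by
        rw [← c.w top.hom, ← Category.assoc]
        erw [hfst top]
        rw [Category.assoc, Category.assoc, (hDP top).w]
        simp only [Category.assoc])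
    have ht : ∀ j, t ≫ prj j = s.π.app j ≫ ε.app j := fun j => (hDP j).hom_ext
      (by rw [Category.assoc, hprj1, pullback.lift_fst_assoc, Category.assoc]; exact hfst j)
      (by rw [Category.assoc, hprj2, pullback.lift_snd, Category.assoc, hsnd j])
    suffices hfac : ∀ (Z : Over S) (z : (yon S).obj Z ⟶ s.pt), ∃ r, r ≫ k = z ≫ t by
      have hiso : IsIso (pullback.snd k t) := by
        refine AlgSpLib.isIso_of_bijective fun Z => ⟨fun r r' e => (cancel_mono (pullback.snd k t)).1 e,
          fun z => ?_⟩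
        obtain ⟨r, hr⟩ := hfac Z z
        exact ⟨pullback.lift r z hr, pullback.lift_snd _ _ _⟩
      refine ⟨inv (pullback.snd k t) ≫ pullback.fst k t, fun j => ?_⟩
      rw [← cancel_mono (ε.app j), Category.assoc, Category.assoc, ← hkξ, pullback.condition_assoc,
        IsIso.inv_hom_id_assoc, ht]
    -- the factorisation over affine charts of `W`
    have key : ∀ (V Z' : Over S) (φ : (yon S).obj V ⟶ W) (ζ : (yon S).obj Z' ⟶ s.pt) (v : Z' ⟶ V),
        IsAffine V.left → IsAffine Z'.left → RepWith @Etale φ →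
        (yon S).map v ≫ φ = ζ ≫ t ≫ pullback.snd (c.π.app i) w → ∃ l, l ≫ k = ζ ≫ t := by
      intro V Z' φ ζ v hV hZ' hφ hv
      obtain ⟨Wj, cW, iV, fst, p, q, ⟨hcW⟩, hcWaff, hWaff, sq, hiV, hq, -, sqV⟩ :=
        Groth.Agent.MonoPtLib.exists_pullback_limit' (Groth.Agent.MonoPtLib.overNat D i)
          (fun j => hDa _ _ j.hom) hcw hconst (c.π.app i) hover hV (φ ≫ w)
      let m : (yon S).obj cW.pt ⟶ pullback (c.π.app i) w :=
        pullback.lift fst ((yon S).map iV ≫ φ) (by rw [sqV.w, Category.assoc])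
      have sqm : IsPullback m ((yon S).map iV) (pullback.snd (c.π.app i) w) φ :=
        IsPullback.of_right (by rw [pullback.lift_fst]; exact sqV) (pullback.lift_snd _ _ _) sqP
      obtain ⟨zc, hzc⟩ := (yon S).map_surjective (sqm.lift (ζ ≫ t) ((yon S).map v)
        (by rw [Category.assoc, hv]))
      obtain ⟨XV, xb, x, hx⟩ : ∃ (XV : Over S) (xb : (yon S).obj XV ⟶ X) (x : XV ⟶ cW.pt),
          IsPullback xb ((yon S).map x) k m := ⟨_, _, _, hk.rep.isPullback m⟩
      haveI : IsClosedImmersion x.left := (repWith_yon_map_iff (P := (@IsClosedImmersion : MorphismProperty Scheme.{u})) x).1 (repWith_of_isPullback hx hk)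
      haveI : IsAffine cW.pt.left := hcWaff
      haveI : IsAffine XV.left := isAffine_of_isAffineHom x.left
      haveI : IsAffine Z'.left := hZ'
      obtain ⟨l, hl⟩ := exists_factor_of_appTop x zc fun h hh => by
        obtain ⟨⟨hcS⟩⟩ : Nonempty (Nonempty (IsLimit ((Over.forget S).mapCone cW))) :=
          ⟨Groth.Agent.MonoPtLib.scheme_isLimit hcW⟩
        haveI : ∀ j, IsAffine ((Wj ⋙ Over.forget S).obj j) := hWaff
        obtain ⟨j, hj, rfl⟩ := exists_appTop_π_eq_of_isAffine_of_isLimit _ _ hcS h
        haveI : IsAffine (Wj.obj j).left := hWaff j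
        have sqj : IsPullback (q j) ((yon S).map (p j)) (D.map j.hom) (φ ≫ w) := by
          simpa [Groth.Agent.MonoPtLib.overNat] using! sq j
        let g : (yon S).obj (Wj.obj j) ⟶ DP.obj j := (hDP j).lift (q j) ((yon S).map (p j) ≫ φ)
          (by rw [sqj.w, Category.assoc])
        have sqg : IsPullback g ((yon S).map (p j)) (π₂.app j) φ :=
          IsPullback.of_right (by rw [(hDP j).lift_fst]; exact sqj) ((hDP j).lift_snd _ _ _) (hDP j)
        have hg : RepWith @Etale g := repWith_of_isPullback sqg.flip hφ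
        have sqf : IsPullback m ((yon S).map (cW.π.app j)) (prj j) g := by
          refine IsPullback.of_bot ?_ ((hDP j).hom_ext ?_ ?_) sqg
          · rw [← Functor.map_comp, hiV, hprj2]
            exact sqm
          · rw [Category.assoc, Category.assoc, hprj1, (hDP j).lift_fst, pullback.lift_fst_assoc]
            exact hq j
          · rw [Category.assoc, Category.assoc, hprj2, (hDP j).lift_snd, pullback.lift_snd,
              ← Functor.map_comp_assoc, hiV]
        have sqh : IsPullback xb ((yon S).map (x ≫ cW.π.app j)) (ξ.app j ≫ ε.app j) g := by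
          rw [← hkξ, Functor.map_comp]
          exact hx.paste_vert sqf
        let e := (IsPullback.of_hasPullback (ξ.app j ≫ ε.app j) g)
        let iso := sqh.isoIsPullback _ _ e
        have hchart : IsChartOn (ξ.app j ≫ ε.app j) g xb (x ≫ cW.π.app j) :=
          ⟨iso.hom, repWith_of_isIso _, repWith_of_isIso _, sqh.isoIsPullback_hom_fst _ _ e,
            sqh.isoIsPullback_hom_snd _ _ e⟩
        haveI : QuasiCompact (x ≫ cW.π.app j).left := by
          rw [Over.comp_left]; infer_instance
        obtain ⟨fI, sqI⟩ := isIdealOn_ker_of_isSchImage hX (hDPalg j) (hqc j) (himg j)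
          (locP_of_repWith (repWith_mono (fun _ _ g (_ : Etale g) => (inferInstance : Flat g)) hg)) hchart
        obtain ⟨u, hu⟩ := (yon S).map_surjective (sqI.lift (ζ ≫ s.π.app j)
          ((yon S).map (zc ≫ cW.π.app j)) (by
            simp only [Functor.map_comp, Category.assoc]
            rw [← sqf.w, ← Category.assoc ((yon S).map zc), hzc, sqm.lift_fst, Category.assoc, ht]))
        have hu' : u.left ≫ (subι (Wj.obj j) (x ≫ cW.π.app j).left.ker).left =
            zc.left ≫ (cW.π.app j).left := by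
          rw [← Over.comp_left, ← Over.comp_left]
          refine congrArg CommaMorphism.left ((yon S).map_injective ?_)
          rw [Functor.map_comp, hu, sqI.lift_snd]
        have h0 : (subι (Wj.obj j) (x ≫ cW.π.app j).left.ker).left.appTop hj = 0 := by
          have hmem : hj ∈ ((x ≫ cW.π.app j).left.ker).ideal ⟨⊤, isAffineOpen_top _⟩ := by
            rw [Scheme.Hom.ker_apply, RingHom.mem_ker]
            exact hh
          rw [← Scheme.IdealSheafData.ker_subschemeι_app] at hmem
          exact hmem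
        change ((cW.π.app j).left.appTop ≫ zc.left.appTop) hj = 0
        rw [← Scheme.Hom.comp_appTop, ← hu', Scheme.Hom.comp_appTop, CommRingCat.comp_apply, h0, map_zero]
      refine ⟨(yon S).map l ≫ xb, ?_⟩
      rw [Category.assoc, hx.w, ← Functor.map_comp_assoc, hl, hzc, sqm.lift_fst]
    -- localise
    intro Z z
    refine exists_desc_mono (z ≫ t) fun y => ?_
    let τ := z ≫ t ≫ pullback.snd (c.π.app i) w
    obtain ⟨A, str, φ, v₀, hφ, hv₀⟩ := exists_affine_etale_nhd hW (Points.map τ y)
    have sqQ := IsPullback.of_hasPullback φ τ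
    obtain ⟨y', -, hy'⟩ := exists_point_isPullback sqQ (Points.schemeEquiv (Over.mk str) v₀) y
      (by rw [← hv₀, Points.ofPt_eq_map_ofScheme]; rfl)
    obtain ⟨B, str', e, v₁, he, hv₁⟩ := exists_affine_etale_nhd
      (isAlgSpace_pullback (IsAlgSpace.yon_obj _) (IsAlgSpace.yon_obj Z) hW φ τ) y'
    obtain ⟨v, hv⟩ := (yon S).map_surjective (e ≫ pullback.fst φ τ)
    obtain ⟨l, hl⟩ := key (Over.mk str) (Over.mk str') φ ((e ≫ pullback.snd φ τ) ≫ z) v
      (inferInstanceAs (IsAffine (Spec A))) (inferInstanceAs (IsAffine (Spec B))) hφ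
      (by rw [hv, Category.assoc, pullback.condition]; simp only [τ, Category.assoc])
    refine ⟨Over.mk str', e ≫ pullback.snd φ τ, l, repWith_comp he (repWith_of_isPullback sqQ hφ),
      ⟨v₁, ?_⟩, by rw [hl, Category.assoc]⟩
    rw [← Points.map_ofPt, hv₁, hy']
  choose lift fac using main
  exact ⟨{ lift := lift
           fac := fac
           uniq := fun s m hm => by
             rw [← cancel_mono k]
             apply pullback.hom_ext
             · refine hcw.hom_ext fun j => ?_
               simp only [Category.assoc]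
               change m ≫ k ≫ pullback.fst _ _ ≫ c.π.app j.left =
                 lift s ≫ k ≫ pullback.fst _ _ ≫ c.π.app j.left
               rw [← hprj1, reassoc_of% (hkξ j)]
               have h1 : m ≫ ξ.app j = s.π.app j := hm j
               rw [reassoc_of% h1, reassoc_of% (fac s j)]
             · rw [Category.assoc, Category.assoc, ← hprj2 (Over.mk (𝟙 i)), reassoc_of% (hkξ _)]
               have h1 : m ≫ ξ.app (Over.mk (𝟙 i)) = s.π.app _ := hm _
               rw [reassoc_of% h1, reassoc_of% (fac s _)] }⟩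

end SchImgLimLib
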