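import Groth.Agent.SchImgLimLib.Main
import Groth.Agent.MonoPtLib.LimLfpSpaces
import Groth.Agent.AlgSpLib.MorPack
import Groth.Agent.AlgSpLib.Noeth
import Groth.Agent.AlgSpLib.QcQs

/-!
# Morphisms of the systems of scheme theoretic images
-/

set_option autoImplicit false
set_option backward.isDefEq.respectTransparency false
set_option backward.isDefEq.respectTransparency.types false

universe u

open CategoryTheory CategoryTheory.Limits AlgebraicGeometry AlgSp AlgSpLib AlgSpRegLib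

namespace SchImgLimLib

variable {S : Scheme.{u}}

/-- A morphism from a scheme theoretic image lands in a closed subspace as soon as the source does. -/
theorem exists_factor_of_image {F G Z P Q : Sp S} (hZ : IsAlgSpace Z) {f : F ⟶ G} {i : Z ⟶ G}
    (hs : IsSchImage f i) {f' : F ⟶ Z} (hf' : f' ≫ i = f) {e : P ⟶ Q} (he : RepWith @IsClosedImmersion e)
    (m : Z ⟶ Q) (g : F ⟶ P) (w : f' ≫ m = g ≫ e) : ∃ r : Z ⟶ P, r ≫ e = m := by
  haveI := mono_of_closedImmersion hs.1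
  have hp : RepWith @IsClosedImmersion (pullback.fst m e) :=
    repWith_of_isPullback (IsPullback.of_hasPullback m e).flip he
  obtain ⟨k, hk⟩ := hs.2.2 (pullback.fst m e ≫ i) (isAlgSpace_of_representable hZ _ hp.rep)
    (repWith_comp hp hs.1) ⟨pullback.lift f' g w, by rw [pullback.lift_fst_assoc, hf']⟩
  have hk' : k ≫ pullback.fst m e = 𝟙 Z := by
    rw [← cancel_mono i, Category.assoc, hk, Category.id_comp]
  exact ⟨k ≫ pullback.snd m e, by rw [Category.assoc, ← pullback.condition, reassoc_of% hk']⟩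

theorem exists_map [QuasiSeparatedSpace S] {I : Type u} [SmallCategory I] [IsCofiltered I]
    (D : I ⥤ Sp S) (hD : ∀ i, IsAlgSpace (D.obj i)) (hDa : ∀ (i j : I) (φ : i ⟶ j), IsAffineMor (D.map φ))
    (hqc : ∀ i, IsQuasiCompactSp (D.obj i)) (hqs : ∀ i, IsQuasiSeparatedSp (D.obj i))
    (c : Cone D) (hc : IsLimit c)
    {X Y : Sp S} (hX : IsAlgSpace X) (aX : X ⟶ c.pt) (aY : Y ⟶ c.pt) (f : X ⟶ Y) (hf : f ≫ aY = aX)
    (i₁ : I) {W : Sp S} (hW : IsAlgSpace W) (w : W ⟶ D.obj i₁) (hwqc : IsQuasiCompactMor w)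
    (hwqs : IsQuasiSeparatedMor w) (bX : X ⟶ W) (hbX : bX ≫ w = aX ≫ c.π.app i₁)
    (hciX : ∀ (P : Sp S) (fst : P ⟶ c.pt) (snd : P ⟶ W), IsPullback fst snd (c.π.app i₁) w →
      ∀ k : X ⟶ P, k ≫ fst = aX → k ≫ snd = bX → RepWith @IsClosedImmersion k)
    (PX : Over i₁ ⥤ Sp S) (PXπ₁ : PX ⟶ Over.forget i₁ ⋙ D) (PXπ₂ : PX ⟶ (Functor.const (Over i₁)).obj W)
    (hPX : ∀ i' : Over i₁, IsPullback (PXπ₁.app i') (PXπ₂.app i') (D.map i'.hom) w)
    (DX : Over i₁ ⥤ Sp S) (hDX : ∀ i', IsAlgSpace (DX.obj i')) (εX : DX ⟶ PX)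
    (ξX : (Functor.const (Over i₁)).obj X ⟶ DX)
    (hξX : ∀ i' : Over i₁, ξX.app i' ≫ εX.app i' ≫ PXπ₁.app i' = aX ≫ c.π.app i'.left ∧
      ξX.app i' ≫ εX.app i' ≫ PXπ₂.app i' = bX)
    (himgX : ∀ i' : Over i₁, IsSchImage (ξX.app i' ≫ εX.app i') (εX.app i'))
    (i₂ : I) {V : Sp S} (hV : IsAlgSpace V) (v : V ⟶ D.obj i₂) (hvp : LocP @LocallyOfFinitePresentation v)
    (bY : Y ⟶ V) (hbY : bY ≫ v = aY ≫ c.π.app i₂)
    (PY : Over i₂ ⥤ Sp S) (PYπ₁ : PY ⟶ Over.forget i₂ ⋙ D) (PYπ₂ : PY ⟶ (Functor.const (Over i₂)).obj V)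
    (hPY : ∀ i' : Over i₂, IsPullback (PYπ₁.app i') (PYπ₂.app i') (D.map i'.hom) v)
    (DY : Over i₂ ⥤ Sp S) (εY : DY ⟶ PY) (ξY : (Functor.const (Over i₂)).obj Y ⟶ DY)
    (hξY : ∀ i' : Over i₂, ξY.app i' ≫ εY.app i' ≫ PYπ₁.app i' = aY ≫ c.π.app i'.left ∧
      ξY.app i' ≫ εY.app i' ≫ PYπ₂.app i' = bY)
    (himgY : ∀ i' : Over i₂, IsSchImage (ξY.app i' ≫ εY.app i') (εY.app i')) :
    ∃ (i₀ : I) (φ₁ : i₀ ⟶ i₁) (φ₂ : i₀ ⟶ i₂) (fam : Over.map φ₁ ⋙ DX ⟶ Over.map φ₂ ⋙ DY),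
      (∀ i' : Over i₀, ξX.app ((Over.map φ₁).obj i') ≫ fam.app i' = f ≫ ξY.app ((Over.map φ₂).obj i')) ∧
        (∀ i' : Over i₀, fam.app i' ≫ εY.app ((Over.map φ₂).obj i') ≫ PYπ₁.app ((Over.map φ₂).obj i') =
          εX.app ((Over.map φ₁).obj i') ≫ PXπ₁.app ((Over.map φ₁).obj i')) ∧
      ∀ gam : Over.map φ₁ ⋙ DX ⟶ Over.map φ₂ ⋙ DY,
        (∀ i' : Over i₀, ξX.app ((Over.map φ₁).obj i') ≫ gam.app i' = f ≫ ξY.app ((Over.map φ₂).obj i')) ∧
        (∀ i' : Over i₀, gam.app i' ≫ εY.app ((Over.map φ₂).obj i') ≫ PYπ₁.app ((Over.map φ₂).obj i') =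
          εX.app ((Over.map φ₁).obj i') ≫ PXπ₁.app ((Over.map φ₁).obj i')) →
        ∃ (j₀ : I) (ψ : j₀ ⟶ i₀), ∀ j : Over j₀, fam.app ((Over.map ψ).obj j) = gam.app ((Over.map ψ).obj j) := by
  haveI hmY : ∀ q, Mono (εY.app q) := fun q => mono_of_closedImmersion (himgY q).1
  obtain ⟨hL⟩ := nonempty_isLimit D hD hDa c hc hX aX i₁ hW w bX hbX hciX PX PXπ₁ PXπ₂ hPX DX εX ξX hξX himgX
  have hPXalg : ∀ p, IsAlgSpace (PX.obj p) := fun p => isAlgSpace_of_isPullback (hD _) hW (hD i₁) (hPX p)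
  have hεp : ∀ p, IsProperMor (εX.app p) := fun p =>
    isProperMor_of_closedImmersion (hDX p) (hPXalg p) (himgX p).1
  have hWqc : IsQuasiCompactSp W := isQuasiCompactSp_of_mor (hD i₁) hwqc (hqc i₁)
  have hWqs : IsQuasiSeparatedSp W := isQuasiSeparatedSp_of_mor hwqs (hqs i₁)
  have hXqc : ∀ p, IsQuasiCompactSp (DX.obj p) := fun p =>
    isQuasiCompactSp_of_mor (hPXalg p) (hεp p).2.1.2 (isQuasiCompactSp_of_mor hW
      (isQuasiCompactMor_of_isPullback (hPX p) (isQuasiCompactMor_of_repWith (hD _) (hD _)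
        (repWith_mono (fun _ _ g (_ : IsAffineHom g) => (inferInstance : QuasiCompact g))
          (isAffineMor_iff.1 (hDa _ _ p.hom))))) hWqc)
  have hXqs : ∀ p, IsQuasiSeparatedSp (DX.obj p) := fun p =>
    isQuasiSeparatedSp_of_mor (isQuasiSeparatedMor_of_isSeparatedMor (hεp p).1)
      (isQuasiSeparatedSp_of_isPullback (hPX p) (hqs _) (hqs i₁) hWqs)
  have hDXa : ∀ (p p' : Over i₁) (g : p ⟶ p'), IsAffineMor (DX.map g) := fun p p' g => by
    have e₂ : PX.map g ≫ PXπ₂.app p' = PXπ₂.app p := by simpa using PXπ₂.naturality g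
    have sq : IsPullback (PXπ₁.app p) (PX.map g) (D.map g.left) (PXπ₁.app p') :=
      IsPullback.of_bot (v₂₁ := PXπ₂.app p') (v₂₂ := D.map p'.hom) (h₃₁ := w)
        (by rw [e₂, ← D.map_comp, Over.w g]; exact hPX p) (PXπ₁.naturality g).symm (hPX p')
    refine isAffineMor_iff.2 (repWith_of_comp (fun _ _ h (_ : IsClosedImmersion h) => (inferInstance : IsAffineHom h))
      (hεp p').1 ?_)
    rw [εX.naturality g]
    exact repWith_comp (repWith_mono (fun _ _ h (_ : IsClosedImmersion h) => (inferInstance : IsAffineHom h))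
      (himgX p).1) (repWith_of_isPullback sq (isAffineMor_iff.1 (hDa _ _ g.left)))
  -- a first stage
  let k : Over i₁ := Over.mk (IsCofiltered.minToLeft i₁ i₂)
  let r : k.left ⟶ i₂ := IsCofiltered.minToRight i₁ i₂
  obtain ⟨k', φ, x', hx', hx'v⟩ := Groth.Agent.MonoPtLib.exists_lift_stage_space DX hDXa (Cone.mk X ξX) hL hDX
    hXqc hXqs hV (hD i₂) hvp (f ≫ bY) k (εX.app k ≫ PXπ₁.app k ≫ D.map r) (by
      rw [Category.assoc, hbY, reassoc_of% hf]
      change _ = ξX.app k ≫ _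
      rw [reassoc_of% (hξX k).1, c.w r])
  let φ₁ : k'.left ⟶ i₁ := k'.hom
  let φ₂ : k'.left ⟶ i₂ := φ.left ≫ r
  let tok : ∀ i' : Over k'.left, (Over.map φ₁).obj i' ⟶ k' := fun i' => Over.homMk i'.hom rfl
  have hz : ∀ i' : Over k'.left, (DX.map (tok i') ≫ x') ≫ v =
      (εX.app ((Over.map φ₁).obj i') ≫ PXπ₁.app _) ≫ D.map ((Over.map φ₂).obj i').hom := fun i' => by
    have n₁ : ∀ {p p' : Over i₁} (g : p ⟶ p'), DX.map g ≫ εX.app p' ≫ PXπ₁.app p' =
        (εX.app p ≫ PXπ₁.app p) ≫ D.map g.left := fun g => by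
      rw [← Category.assoc, εX.naturality g, Category.assoc, Category.assoc]
      exact congrArg (εX.app _ ≫ ·) (PXπ₁.naturality g)
    rw [Category.assoc, hx'v, ← Category.assoc, ← DX.map_comp, ← Category.assoc (εX.app k), ← Category.assoc,
      n₁, Category.assoc, ← D.map_comp]
    refine congrArg (fun t => (εX.app _ ≫ PXπ₁.app _) ≫ D.map t) ?_
    simp [tok, φ₂]
  let m : ∀ i' : Over k'.left, DX.obj ((Over.map φ₁).obj i') ⟶ PY.obj ((Over.map φ₂).obj i') :=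
    fun i' => (hPY _).lift _ _ (hz i').symm
  have hm₁ : ∀ i', m i' ≫ PYπ₁.app _ = εX.app _ ≫ PXπ₁.app _ := fun i' => (hPY _).lift_fst _ _ _
  have hm₂ : ∀ i', m i' ≫ PYπ₂.app _ = DX.map (tok i') ≫ x' := fun i' => (hPY _).lift_snd _ _ _
  have hξm : ∀ i', ξX.app _ ≫ m i' = (f ≫ ξY.app ((Over.map φ₂).obj i')) ≫ εY.app _ := fun i' => by
    refine (hPY _).hom_ext ?_ ?_
    · rw [Category.assoc, hm₁, (hξX _).1, Category.assoc, Category.assoc, (hξY _).1, reassoc_of% hf]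
      rfl
    · rw [Category.assoc, hm₂, Category.assoc, Category.assoc, (hξY _).2, ← hx']
      have := (Cone.mk X ξX).w (tok i')
      exact (Category.assoc _ _ _).symm.trans (congrArg (· ≫ x') this)
  choose fm hfm using fun i' => exists_factor_of_image (hDX _) (himgX ((Over.map φ₁).obj i')) rfl
    (himgY ((Over.map φ₂).obj i')).1 (m i') (f ≫ ξY.app _) (hξm i')
  have hnat : ∀ ⦃a b : Over k'.left⦄ (g : a ⟶ b),
      (Over.map φ₁ ⋙ DX).map g ≫ fm b = fm a ≫ (Over.map φ₂ ⋙ DY).map g := fun a b g => by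
    rw [← cancel_mono (εY.app _), Category.assoc, Category.assoc]
    erw [hfm b, εY.naturality, ← Category.assoc (fm a), hfm a]
    refine (hPY _).hom_ext ?_ ?_
    · rw [Category.assoc, Category.assoc, hm₁ b]
      erw [PYπ₁.naturality, ← Category.assoc (m a), hm₁ a, ← Category.assoc, εX.naturality]
      rw [Category.assoc, Category.assoc]
      erw [PXπ₁.naturality]
      rfl
    · rw [Category.assoc, Category.assoc, hm₂ b]
      erw [PYπ₂.naturality]
      erw [Category.comp_id]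
      rw [hm₂ a, ← Category.assoc]
      erw [← DX.map_comp]
      congr 2
      exact Over.OverMorphism.ext (Over.w g)
  refine ⟨k'.left, φ₁, φ₂, { app := fm, naturality := fun a b g => hnat g }, fun i' => ?_, fun i' => ?_,
    fun gam hgam => ?_⟩
  · rw [← cancel_mono (εY.app _)]
    change (ξX.app _ ≫ fm i') ≫ _ = _
    rw [Category.assoc, hfm i', hξm i']
  · change fm i' ≫ _ = _
    rw [← Category.assoc, hfm i', hm₁]
  · let t : Over k'.left := Over.mk (𝟙 _)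
    have hv' : ∀ (g : DX.obj ((Over.map φ₁).obj t) ⟶ DY.obj ((Over.map φ₂).obj t)),
        g ≫ εY.app _ ≫ PYπ₁.app _ = εX.app ((Over.map φ₁).obj t) ≫ PXπ₁.app ((Over.map φ₁).obj t) →
        (g ≫ εY.app _ ≫ PYπ₂.app _) ≫ v =
          (εX.app ((Over.map φ₁).obj t) ≫ PXπ₁.app ((Over.map φ₁).obj t)) ≫ D.map ((Over.map φ₂).obj t).hom :=
      fun g hg => by
        rw [← hg, Category.assoc, Category.assoc, Category.assoc, Category.assoc]
        exact congrArg (fun q => g ≫ εY.app _ ≫ q) (hPY _).w.symm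
    obtain ⟨j, ψ', hj⟩ := Groth.Agent.MonoPtLib.exists_eq_stage_space DX hDXa (Cone.mk X ξX) hL hV (hD i₂)
      (f := v) (fun U V' a b h ha hb e => by
        haveI : LocallyOfFinitePresentation h.left := hvp a b h ha hb e
        infer_instance) ((Over.map φ₁).obj t) (hXqc _)
      (fm t ≫ εY.app _ ≫ PYπ₂.app _) (gam.app t ≫ εY.app _ ≫ PYπ₂.app _)
      ((hv' _ (by rw [← Category.assoc, hfm, hm₁])).trans (hv' _ (hgam.2 t)).symm) (by
        change ξX.app _ ≫ _ = ξX.app _ ≫ _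
        rw [← Category.assoc _ (gam.app t), hgam.1 t, ← Category.assoc (fm t), hfm t, ← Category.assoc, hξm t]
        simp only [Category.assoc])
    refine ⟨j.left, ψ'.left, fun jj => ?_⟩
    let o := (Over.map (show j.left ⟶ k'.left from ψ'.left)).obj jj
    let g : o ⟶ t := Over.homMk o.hom (Category.comp_id _)
    let g₁ : (Over.map φ₁).obj o ⟶ j := Over.homMk jj.hom (by
      have := Over.w ψ'
      simp [o, t, φ₁] at this ⊢
      rw [this])
    have hgg : g₁ ≫ ψ' = (Over.map φ₁).map g := Over.OverMorphism.ext (by simp [g₁, g, o])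
    have key : ∀ γ' : Over.map φ₁ ⋙ DX ⟶ Over.map φ₂ ⋙ DY, γ'.app o ≫ εY.app _ ≫ PYπ₂.app _ =
        DX.map g₁ ≫ DX.map ψ' ≫ γ'.app t ≫ εY.app _ ≫ PYπ₂.app _ := fun γ' => by
      rw [← Category.assoc (DX.map g₁), ← DX.map_comp, hgg, ← Category.assoc (DX.map _)]
      erw [γ'.naturality g]
      rw [Category.assoc]
      refine congrArg (γ'.app o ≫ ·) ?_
      rw [← Category.assoc]
      erw [εY.naturality]
      rw [Category.assoc]
      erw [PYπ₂.naturality]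
      erw [Category.comp_id]
    change fm o = gam.app o
    rw [← cancel_mono (εY.app _)]
    refine (hPY _).hom_ext ?_ ?_
    · rw [Category.assoc, Category.assoc, hgam.2 o, ← Category.assoc, hfm o, hm₁]
    · rw [Category.assoc, Category.assoc]
      exact (key { app := fm, naturality := fun a b g => hnat g }).trans
        ((congrArg (DX.map g₁ ≫ ·) hj).trans (key gam).symm)

end SchImgLimLib
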